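import Mathlib

set_option autoImplicit false
universe u v

namespace Groth.Agent.TwistMonicLib

open Polynomial

variable {k : Type u} [Field k] {K : Type v} [Field K] [Algebra k K] {r : ℕ}

noncomputable def tw (N : ℕ) (g : Fin r → K) :
    MvPolynomial (Fin r) k →ₐ[k] Polynomial (MvPolynomial (Fin r) K) :=
  MvPolynomial.aeval (fun i : Fin r => C (MvPolynomial.X i) + C (MvPolynomial.C (g i)) * X ^ N)

/-- degree at most `A` with `A`-th coefficient the constant `u` -/
def Top (P : Polynomial (MvPolynomial (Fin r) K)) (A : ℕ) (u : K) : Prop :=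
  P.natDegree ≤ A ∧ P.coeff A = MvPolynomial.C u

theorem Top.mul {P Q : Polynomial (MvPolynomial (Fin r) K)} {A B : ℕ} {u w : K}
    (hP : Top P A u) (hQ : Top Q B w) : Top (P * Q) (A + B) (u * w) :=
  ⟨natDegree_mul_le.trans (add_le_add hP.1 hQ.1),
    by rw [coeff_mul_add_eq_of_natDegree_le hP.1 hQ.1, hP.2, hQ.2, map_mul]⟩

theorem top_monomial {N : ℕ} (hN : 0 < N) (g : Fin r → K) (d : Fin r →₀ ℕ) (c : k) :
    Top (tw N g (MvPolynomial.monomial d c)) (N * d.degree)
      (algebraMap k K c * d.prod fun i e => g i ^ e) := by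
  induction d using Finsupp.induction with
  | zero =>
    refine ⟨?_, ?_⟩
    · simp [tw]
    · simp [tw, IsScalarTower.algebraMap_apply k (MvPolynomial (Fin r) K) (Polynomial (MvPolynomial (Fin r) K)),
        IsScalarTower.algebraMap_apply k K (MvPolynomial (Fin r) K)]
  | single_add i e d hid he ih =>
    have h1 : ∀ n : ℕ, Top ((C (MvPolynomial.X i) + C (MvPolynomial.C (g i)) * X ^ N :
        Polynomial (MvPolynomial (Fin r) K)) ^ n) (N * n) (g i ^ n) := by
      intro n
      induction n with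
      | zero => simp [Top]
      | succ n ihn =>
        rw [pow_succ, pow_succ, Nat.mul_succ]
        refine ihn.mul ⟨natDegree_add_le_of_degree_le (by simp) (natDegree_C_mul_X_pow_le _ _), ?_⟩
        simp [coeff_C, hN.ne']
    have h2 : tw N g (MvPolynomial.monomial (Finsupp.single i e + d) c) =
        (C (MvPolynomial.X i) + C (MvPolynomial.C (g i)) * X ^ N) ^ e * tw N g (MvPolynomial.monomial d c) := by
      rw [MvPolynomial.monomial_single_add, map_mul, map_pow]
      simp [tw]
    rw [h2, map_add, Finsupp.degree_single, mul_add,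
      Finsupp.prod_add_index' (fun i => pow_zero _) (fun i a b => pow_add _ _ _),
      Finsupp.prod_single_index (h := fun i e => g i ^ e) (pow_zero _),
      show algebraMap k K c * (g i ^ e * d.prod fun i e => g i ^ e) =
        g i ^ e * (algebraMap k K c * d.prod fun i e => g i ^ e) by ring]
    exact (h1 e).mul ih

theorem top_of_le {N : ℕ} (hN : 0 < N) (g : Fin r → K) (a : MvPolynomial (Fin r) k) (D : ℕ)
    (hD : a.totalDegree ≤ D) :
    Top (tw N g a) (N * D) (MvPolynomial.aeval g (MvPolynomial.homogeneousComponent D a)) := by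
  classical
  have hdeg : ∀ d ∈ a.support, d.degree ≤ D := fun d hd =>
    le_trans (show d.degree ≤ a.totalDegree from MvPolynomial.le_totalDegree hd) hD
  constructor
  · conv_lhs => rw [a.as_sum, map_sum]
    exact natDegree_sum_le_of_forall_le _ _ fun d hd =>
      (top_monomial hN g d _).1.trans (Nat.mul_le_mul_left N (hdeg d hd))
  · conv_lhs => rw [a.as_sum, map_sum, finset_sum_coeff]
    rw [MvPolynomial.homogeneousComponent_apply, map_sum, map_sum, Finset.sum_filter]
    refine Finset.sum_congr rfl fun d hd => ?_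
    split
    next h =>
      rw [← h, (top_monomial hN g d _).2, MvPolynomial.aeval_monomial]
    next h =>
      refine coeff_eq_zero_of_natDegree_lt ((top_monomial hN g d _).1.trans_lt ?_)
      exact Nat.mul_lt_mul_of_pos_left (lt_of_le_of_ne (hdeg d hd) h) hN

theorem exists_top (f : Polynomial (MvPolynomial (Fin r) k)) (hf : f ≠ 0) :
    ∃ (h : MvPolynomial (Fin r) k) (D j₀ : ℕ), h ≠ 0 ∧ (D = 0 → j₀ = f.natDegree) ∧
      ∀ N : ℕ, f.natDegree < N → ∀ (K : Type v) [Field K] [Algebra k K] (g : Fin r → K),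
        Top (eval₂ (tw N g).toRingHom X f) (N * D + j₀) (MvPolynomial.aeval g h) := by
  classical
  obtain ⟨j₁, hj₁, hmax⟩ := f.support.exists_max_image (fun j => (f.coeff j).totalDegree)
    (support_nonempty.mpr hf)
  set D := (f.coeff j₁).totalDegree with hD
  set S := f.support.filter (fun j => (f.coeff j).totalDegree = D) with hS
  have hSne : S.Nonempty := ⟨j₁, Finset.mem_filter.mpr ⟨hj₁, rfl⟩⟩
  set j₀ := S.max' hSne with hj₀
  obtain ⟨hj₀s, hj₀D⟩ := Finset.mem_filter.mp (S.max'_mem hSne)
  refine ⟨MvPolynomial.homogeneousComponent D (f.coeff j₀), D, j₀, ?_, ?_, ?_⟩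
  · have hne : f.coeff j₀ ≠ 0 := mem_support_iff.mp hj₀s
    obtain ⟨d, hd, hdd⟩ : ∃ d ∈ (f.coeff j₀).support, d.degree = D := by
      obtain ⟨d, hd, hdm⟩ := (f.coeff j₀).support.exists_mem_eq_sup
        (MvPolynomial.support_nonempty.mpr hne) (fun d => d.sum fun _ e => e)
      refine ⟨d, hd, ?_⟩
      rw [← hj₀D, MvPolynomial.totalDegree, hdm]; rfl
    intro h0
    have := congrArg (MvPolynomial.coeff d) h0
    rw [MvPolynomial.coeff_homogeneousComponent, if_pos hdd, MvPolynomial.coeff_zero] at this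
    exact MvPolynomial.mem_support_iff.mp hd this
  · intro h0
    refine le_antisymm (le_natDegree_of_mem_supp _ hj₀s) (S.le_max' _ (Finset.mem_filter.mpr ⟨natDegree_mem_support_of_nonzero hf, ?_⟩))
    have := hmax _ (natDegree_mem_support_of_nonzero hf)
    omega
  intro N hN K _ _ g
  have hN0 : 0 < N := by omega
  have hterm : ∀ j ∈ f.support, j ≠ j₀ →
      ((tw N g) (f.coeff j) * X ^ j).natDegree < N * D + j₀ := by
    intro j hj hne
    refine (natDegree_mul_le.trans (add_le_add (top_of_le hN0 g _ _ le_rfl).1 (natDegree_X_pow_le _))).trans_lt ?_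
    rcases (hmax j hj).lt_or_eq with hlt | heq
    · have : N * (f.coeff j).totalDegree + N ≤ N * D := by
        rw [← Nat.mul_succ]; exact Nat.mul_le_mul_left N hlt
      have := le_natDegree_of_mem_supp j hj
      omega
    · have : j ≤ j₀ := S.le_max' j (Finset.mem_filter.mpr ⟨hj, heq⟩)
      have : j < j₀ := lt_of_le_of_ne this hne
      rw [show (f.coeff j).totalDegree = D from heq]
      omega
  have hj : Top ((tw N g) (f.coeff j₀) * X ^ j₀) (N * D + j₀)
      (MvPolynomial.aeval g (MvPolynomial.homogeneousComponent D (f.coeff j₀)) * 1) :=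
    (top_of_le hN0 g _ D hj₀D.le).mul ⟨natDegree_X_pow_le _, by simp⟩
  rw [mul_one] at hj
  rw [eval₂_eq_sum, sum_def, ← Finset.add_sum_erase _ _ hj₀s]
  have hrest : (∑ j ∈ f.support.erase j₀, (tw N g).toRingHom (f.coeff j) * X ^ j).coeff (N * D + j₀) = 0 := by
    rw [finset_sum_coeff]
    exact Finset.sum_eq_zero fun j hj => coeff_eq_zero_of_natDegree_lt
      (hterm j (Finset.mem_of_mem_erase hj) (Finset.ne_of_mem_erase hj))
  refine ⟨natDegree_add_le_of_degree_le hj.1 (natDegree_sum_le_of_forall_le _ _ fun j hj =>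
    (hterm j (Finset.mem_of_mem_erase hj) (Finset.ne_of_mem_erase hj)).le), ?_⟩
  rw [coeff_add, hrest, add_zero]
  exact hj.2

theorem leading (r m : ℕ) (hm : 1 ≤ m) (f : Polynomial (MvPolynomial (Fin r) k)) (hf : f ≠ 0) :
    ∃ h : MvPolynomial (Fin r) k, h ≠ 0 ∧ ∃ s₀ : ℕ, ∀ s : ℕ, s₀ ≤ s →
      ∀ (K : Type v) [Field K] [Algebra k K] (g : Fin r → K), MvPolynomial.aeval g h ≠ 0 →
        ∃ c : K, c ≠ 0 ∧ ∃ A : ℕ, (A = 0 → f.natDegree = 0) ∧
          (eval₂ (tw (s * (m + 1)) g).toRingHom X f).natDegree = A ∧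
          (eval₂ (tw (s * (m + 1)) g).toRingHom X f).leadingCoeff = MvPolynomial.C c := by
  obtain ⟨h, D, j₀, hh, hD0, htop⟩ := exists_top.{u, v} f hf
  refine ⟨h, hh, f.natDegree + 1, fun s hs K _ _ g hg => ⟨_, hg, s * (m + 1) * D + j₀, ?_, ?_⟩⟩
  · intro h0
    have hpos : 0 < s * (m + 1) := Nat.mul_pos (by omega) (by omega)
    have h1 : D = 0 := by
      rcases Nat.eq_zero_or_pos D with h | h
      · exact h
      · have := Nat.mul_pos hpos h; omega
    have := hD0 h1; omega
  · obtain ⟨h1, h2⟩ := htop (s * (m + 1)) (by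
      have : s ≤ s * (m + 1) := Nat.le_mul_of_pos_right s (by omega)
      omega) K g
    have he := natDegree_eq_of_le_of_coeff_ne_zero h1 (by rw [h2]; exact (map_ne_zero_iff _ (MvPolynomial.C_injective _ _)).mpr hg)
    exact ⟨he, by rw [leadingCoeff, he, h2]⟩

theorem finite_quot {R : Type*} [CommRing R] [IsDomain R] (F : Polynomial R) (hd : 0 < F.natDegree)
    (hu : IsUnit F.leadingCoeff) :
    Module.Finite R (Polynomial R ⧸ Ideal.span {F}) ∧
      Function.Injective ((Ideal.Quotient.mk (Ideal.span {F})).comp (algebraMap R (Polynomial R))) := by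
  obtain ⟨u, hu⟩ := hu
  have hF : Ideal.span {F} = Ideal.span {C (↑u⁻¹ : R) * F} :=
    (Ideal.span_singleton_mul_left_unit (Units.isUnit _ |>.map C) F).symm
  have hmonic : (C (↑u⁻¹ : R) * F).Monic := by
    rw [Monic, leadingCoeff_mul, leadingCoeff_C, ← hu]; simp
  constructor
  · rw [hF]; exact hmonic.finite_adjoinRoot
  · rw [injective_iff_map_eq_zero]
    intro a ha
    rw [RingHom.comp_apply, Ideal.Quotient.eq_zero_iff_mem, Ideal.mem_span_singleton] at ha
    by_contra h0
    have := natDegree_le_of_dvd ha (by simpa using h0)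
    simp at this; omega

end Groth.Agent.TwistMonicLib
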